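import Cfsg.Agent.H363.Cyc.CharOcc
import Cfsg.Agent.H392.FFourTwo.Degree
import Cfsg.Agent.S1054

/-!
# `F₄(2)`: nonlinear irreducible characters have degree at least 448 (helper363, for TWOCYC, S3507)
-/

set_option autoImplicit false
set_option maxRecDepth 100000

namespace Cfsg.Agent.H363.Cyc.F4TwoDeg

open Cfsg Cfsg.Lie Cfsg.Agent.H686.CharKit Cfsg.Agent.Characters.Core Cfsg.Agent.H954.OutDeg
  Cfsg.Agent.H677.CodMultiset
open Cfsg.Agent.FourTwo.Base Cfsg.Agent.FourTwo.Comm Cfsg.Agent.FourTwo.Par Cfsg.Agent.H392.FFourTwo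
open CharOcc (Occ)
open scoped commutatorElement

attribute [local irreducible] x

/-- the codes that occur -/
def CX (χ : LL → ℂ) : Set ℕ := {m | ∃ l : W →* ℂˣ, Occ W χ l ∧ IsCode l m}

theorem CX_closed {χ : LL → ℂ} (hχ : IsCharacter LL χ) (m : ℕ) (hm : m ∈ CX χ) (r : ℕ) (hr : r ∈ gens) :
    phi r m ∈ CX χ := by
  obtain ⟨l, h1, h2⟩ := hm
  have h3 : Occ W χ (l.comp (cj (conjW hr))) :=
    CharOcc.occ_cj (isClassFunction_def.1 (isCharacter_isClassFunction hχ)) h1 (conjW hr)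
  exact ⟨l.comp (cj (conjW hr)), h3, cj_code h2 hr⟩

theorem CX_nonempty {χ : LL → ℂ} (hχ : IsCharacter LL χ) (h44 : χ (x 44) ≠ χ 1) :
    ∃ m ∈ CX χ, m.testBit 3 = true := by
  obtain ⟨l, hl, hl1⟩ := CharOcc.exists_occ (W := W) (fun a b => Subtype.ext (W_comm a.2 (W_le_Q b.2))) hχ x44_W h44
  obtain ⟨c, hc⟩ := exists_code l
  refine ⟨c, ⟨l, hl, hc⟩, ?_⟩
  by_contra h3
  apply hl1
  have h4 := hc.2 3 (by norm_num)
  rw [Bool.not_eq_true] at h3
  rw [h3, sg_false] at h4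
  exact h4

/-- the degree of a character whose kernel does not contain `x 44` -/
theorem le_deg {χ : LL → ℂ} (hχ : IsCharacter LL χ) (h44 : χ (x 44) ≠ χ 1) : 448 ≤ charDegree χ := by
  classical
  obtain ⟨m, hm, h3⟩ := CX_nonempty hχ h44
  have h128 : ∀ m ∈ CX χ, m < 128 := fun m hm => by
    obtain ⟨l, _, h⟩ := hm
    exact h.1
  obtain ⟨L, hL1, hL2, hL3⟩ := exists_list (C := {m | m ∈ CX χ ∧ m.testBit 3 = true}) (fun m hm => h128 m hm.1)
    (fun m hm r hr => ⟨CX_closed hχ m hm.1 r hr, bit3 r hr m (h128 m hm.1) hm.2⟩) ⟨hm, h3⟩ h3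
  have hex : ∀ m ∈ CX χ, ∃ l : W →* ℂˣ, Occ W χ l ∧ IsCode l m := fun m hm => hm
  choose! f hf using hex
  have hcard : (L.toFinset.image f).card = L.length := by
    rw [Finset.card_image_of_injOn, List.toFinset_card_of_nodup hL1]
    intro m1 h1 m2 h2 e
    rw [Finset.mem_coe, List.mem_toFinset] at h1 h2
    have h4 := (hf m1 (hL3 m1 h1).1).2
    rw [e] at h4
    exact code_inj h4 (hf m2 (hL3 m2 h2).1).2
  have key := CharOcc.sum_le (Q := Q) (W := W) W_le_Q (fun w hw q hq => W_comm hw hq)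
    (fun q hq q' hq' => comm_mem_W hq hq') hχ (L.toFinset.image f) (by
      intro l hl q hq h
      rw [Finset.mem_image] at hl
      obtain ⟨m1, h1, rfl⟩ := hl
      rw [List.mem_toFinset] at h1
      have h4 := (hf m1 (hL3 m1 h1).1).2
      refine nondeg ?_ hq h
      have h5 := h4.2 3 (by norm_num)
      rw [(hL3 m1 h1).2, sg_true] at h5
      intro h6
      exact neg_one_ne (h5.symm.trans h6)) (by
      intro l hl
      rw [Finset.mem_image] at hl
      obtain ⟨m1, h1, rfl⟩ := hl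
      rw [List.mem_toFinset] at h1
      exact (hf m1 (hL3 m1 h1).1).1) (m := 2 ^ 4) (by rw [card_Q, card_W]; norm_num)
  rw [hcard] at key
  omega

theorem md_LL : MD LL 448 := by
  intro χ hχ
  have hs : IsSimpleGroup LL := (Cfsg.Agent.S1054.result chevF4 (by simp)).1
  refine le_deg (isIrr_isCharacter χ.2) fun h => ?_
  have h2 : x 44 ∈ chKer χ := mem_chKer.2 h
  rw [chKer_eq_bot (ne_one hχ), Subgroup.mem_bot] at h2
  exact Cfsg.Agent.FourTwo.BN.x_ne_one (by norm_num) h2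

universe u

/-- `F₄(2)` over any field with two elements -/
theorem md_F4 {F : Type u} [Field F] [Fintype F] (hF : Fintype.card F = 2) : MD ↥(chevF4.group F) 448 := by
  have : Fact (Nat.Prime 2) := ⟨Nat.prime_two⟩
  have h3 : Fintype.card (ZMod 2) = Fintype.card F := by rw [hF]; rfl
  let φ : ZMod 2 ≃+* F := FiniteField.ringEquivOfCardEq h3
  exact md_LL.congr (ChevalleyStructure.FieldIso.groupEquiv chevF4 φ)

end Cfsg.Agent.H363.Cyc.F4TwoDeg
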