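import Cfsg.Agent.H363.Cyc.CharSum
import Cfsg.Agent.H392.FFourTwo.Chars

/-!
# Linear characters of an abelian subgroup occurring in a character (helper363, for TWOCYC, S3507)
-/

set_option autoImplicit false

namespace Cfsg.Agent.H363.Cyc.CharOcc

open Cfsg Cfsg.Agent.H686.CharKit Cfsg.Agent.Characters.Core Cfsg.Agent.H954.OutDeg
open Cfsg.Agent.H392.FFourTwo (cj)
open scoped ComplexConjugate commutatorElement

universe u

variable {G : Type u} [Group G] [Finite G]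

/-- `l` occurs in `χ` -/
def Occ (W : Subgroup G) (χ : G → ℂ) (l : W →* ℂˣ) : Prop :=
  ∃ _ : Fintype ↥W, classInner (fun w : W => χ (w : G)) (fun w => (l w : ℂ)) ≠ 0

omit [Finite G] in
theorem cj_inj {W : Subgroup G} {g : G} (h : ∀ w ∈ W, g * w * g⁻¹ ∈ W) : Function.Injective (cj h) := by
  intro a b hab
  have h1 : g * (a : G) * g⁻¹ = g * (b : G) * g⁻¹ := congrArg Subtype.val hab
  exact Subtype.ext (mul_left_cancel (mul_right_cancel h1))

omit [Finite G] in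
theorem occ_cj {W : Subgroup G} {χ : G → ℂ} (hχ : ∀ a b : G, χ (b * a * b⁻¹) = χ a) {l : W →* ℂˣ} (h : Occ W χ l)
    {g : G} (hg : ∀ w ∈ W, g * w * g⁻¹ ∈ W) : Occ W χ (l.comp (cj hg)) := by
  obtain ⟨hf, h⟩ := h
  refine ⟨hf, ?_⟩
  have h1 : classInner (fun w : W => χ (w : G)) (fun w => ((l.comp (cj hg)) w : ℂ)) =
      classInner (fun w : W => χ (w : G)) (fun w => (l w : ℂ)) := by
    rw [classInner_def, classInner_def]
    congr 1
    let e : W ≃ W := Equiv.ofBijective _ (Finite.injective_iff_bijective.1 (cj_inj hg))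
    refine Fintype.sum_equiv e _ _ fun w => ?_
    have h2 : χ ((e w : W) : G) = χ (w : G) := hχ _ _
    rw [h2]
    rfl
  intro h2
  exact h (h1.symm.trans h2)

theorem exists_occ {W : Subgroup G} (hcW : ∀ a b : ↥W, a * b = b * a) {χ : G → ℂ} (hχ : IsCharacter G χ) {z : G}
    (hz : z ∈ W) (h44 : χ z ≠ χ 1) : ∃ l : W →* ℂˣ, Occ W χ l ∧ l ⟨z, hz⟩ ≠ 1 := by
  classical
  have := Fintype.ofFinite ↥W
  have := finite_irr (G := ↥W)
  have := Fintype.ofFinite (IrrCharacter ↥W)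
  have hres : IsCharacter W (fun w : W => χ (w : G)) := Characters.Clifford.isCharacter_restrict W hχ
  obtain ⟨m, hm⟩ := exists_nat_comb hres
  have hlin : ∀ ψ : IrrCharacter ↥W, ∃ g : W →* ℂˣ, (ψ : W → ℂ) = fun a => (g a : ℂ) := fun ψ =>
    Characters.Linear.exists_hom_of_isIrrCharacter ψ.2 (Characters.CCBasic.irr_apply_one_of_comm hcW ψ.2)
  choose g hg using hlin
  have hmc : (fun w : W => χ (w : G)) = ∑ ψ : IrrCharacter ↥W, (m ψ : ℂ) • (ψ : W → ℂ) := by
    rw [hm]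
    exact Finset.sum_congr rfl fun ψ _ => by rw [Nat.cast_smul_eq_nsmul]
  obtain ⟨ψ, hψm, hψ1⟩ : ∃ ψ : IrrCharacter ↥W, m ψ ≠ 0 ∧ g ψ ⟨z, hz⟩ ≠ 1 := by
    by_contra hcon
    push Not at hcon
    apply h44
    have h2 := congrFun hmc ⟨z, hz⟩
    have h3 := congrFun hmc 1
    rw [Finset.sum_apply] at h2 h3
    refine Eq.trans (show χ z = _ from h2) (Eq.trans ?_ (show χ 1 = _ from h3).symm)
    refine Finset.sum_congr rfl fun ψ _ => ?_
    by_cases h6 : m ψ = 0
    · rw [h6, Pi.smul_apply, Pi.smul_apply, Nat.cast_zero, zero_smul, zero_smul]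
    · rw [Pi.smul_apply, Pi.smul_apply, hg ψ]
      show (m ψ : ℂ) • ((g ψ ⟨z, hz⟩ : ℂˣ) : ℂ) = (m ψ : ℂ) • ((g ψ 1 : ℂˣ) : ℂ)
      rw [hcon ψ h6, map_one]
  refine ⟨g ψ, ⟨inferInstance, ?_⟩, hψ1⟩
  rw [hmc, classInner_sum_left, Finset.sum_eq_single ψ]
  · rw [classInner_smul_left, ← hg ψ, classInner_irr_self ψ.2, mul_one]
    exact_mod_cast hψm
  · intro ψ' _ hne
    rw [classInner_smul_left, ← hg ψ, classInner_irr_ne ψ'.2 ψ.2 (fun h => hne (Subtype.ext h)), mul_zero]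
  · intro h
    exact absurd (Finset.mem_univ ψ) h

/-- The degree bound from `W ≤ Q`. -/
theorem sum_le {Q W : Subgroup G} (hWQ : W ≤ Q) (hW : ∀ w ∈ W, ∀ q ∈ Q, w * q = q * w)
    (hcm : ∀ q ∈ Q, ∀ q' ∈ Q, ⁅q, q'⁆ ∈ W) {χ : G → ℂ} (hχ : IsCharacter G χ) (L : Finset (W →* ℂˣ))
    (hnd : ∀ l ∈ L, ∀ (q : G) (hq : q ∈ Q), (∀ (q' : G) (hq' : q' ∈ Q), l ⟨⁅q, q'⁆, hcm q hq q' hq'⟩ = 1) → q ∈ W)
    (hocc : ∀ l ∈ L, Occ W χ l) {m : ℕ} (hm : m ^ 2 * Nat.card W ≤ Nat.card Q) : L.card * m ≤ charDegree χ := by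
  classical
  have hfW := Fintype.ofFinite ↥W
  have hres : IsCharacter Q (fun w : Q => χ (w : G)) := Characters.Clifford.isCharacter_restrict Q hχ
  have key := CharSum.sum_le (i := Subgroup.inclusion hWQ) (Subgroup.inclusion_injective hWQ)
    (fun w g => Subtype.ext (hW w w.2 g g.2).symm) hres L (by
      intro l hl q hq
      by_contra hcon
      push Not at hcon
      apply hq
      have hqW : (q : G) ∈ W := hnd l hl q q.2 (by
        intro q' hq'
        refine hcon ⟨q', hq'⟩ ⟨⁅(q : G), q'⁆, hcm q q.2 q' hq'⟩ ?_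
        exact Subtype.ext (commutatorElement_def _ _).symm)
      exact ⟨⟨q, hqW⟩, Subtype.ext rfl⟩) (by
      intro l hl
      obtain ⟨hf, h⟩ := hocc l hl
      have e : hf = hfW := Subsingleton.elim _ _
      subst e
      exact h) hm
  have hd : charDegree (fun w : Q => χ (w : G)) = charDegree χ := by
    have h1 := charDegree_cast hres
    have h2 := charDegree_cast hχ
    have h3 : (charDegree (fun a : Q => χ a) : ℂ) = charDegree χ := by rw [h1, h2]; rfl
    exact_mod_cast h3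
  rwa [hd] at key

end Cfsg.Agent.H363.Cyc.CharOcc
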