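import Cfsg.Agent.H954.OutHeis

/-!
# Degrees and linear characters of a central subgroup (helper363, for TWOCYC, S3507)

`sum_le` : `W` is central in `P`, `L` a set of linear characters of `W` occurring in `θ`, nondegenerate on `P / W`;
then `|L| m ≤ θ(1)` for `m² ≤ |P : W|`.
-/

set_option autoImplicit false

namespace Cfsg.Agent.H363.Cyc.CharSum

open Cfsg Cfsg.Agent.H686.CharKit Cfsg.Agent.Characters.Core Cfsg.Agent.H954.OutDeg
open scoped ComplexConjugate

universe u v

variable {P : Type u} [Group P] [Finite P] {W : Type v} [Group W] [Finite W] {i : W →* P}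

/-- Irreducible characters over a nondegenerate linear character. -/
theorem sq_deg (hi : Function.Injective i) (hcen : ∀ (w : W) (g : P), g * i w = i w * g) {l : W →* ℂˣ}
    (hnd : ∀ x : P, x ∉ i.range → ∃ (y : P) (w : W), x * y * x⁻¹ * y⁻¹ = i w ∧ l w ≠ 1) {ψ : P → ℂ}
    (hψ : IsIrrCharacter P ψ) (hc : ∀ (x : P) (w : W), ψ (x * i w) = ψ x * (l w : ℂ)) :
    charDegree ψ ^ 2 * Nat.card W = Nat.card P := by
  classical
  have := Fintype.ofFinite P
  have := Fintype.ofFinite W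
  have hcl := isClassFunction_def.1 (isIrr_isClassFunction hψ)
  have hoff : ∀ x, x ∉ i.range → ψ x = 0 := by
    intro x hx
    obtain ⟨y, w, hy, hlw⟩ := hnd x hx
    have h1 : y * x * y⁻¹ = x * i w⁻¹ := by
      rw [hcen, map_inv, ← hy]
      group
    have h2 := hcl x y
    rw [h1, hc, map_inv] at h2
    have h3 : ψ x * ((((l w)⁻¹ : ℂˣ) : ℂ) - 1) = 0 := by rw [mul_sub, h2, mul_one, sub_self]
    rcases mul_eq_zero.1 h3 with h4 | h4
    · exact h4
    · exfalso
      apply hlw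
      have h5 : (l w)⁻¹ = 1 := Units.ext (by rw [Units.val_one]; exact sub_eq_zero.1 h4)
      exact inv_eq_one.1 h5
  have hon : ∀ w : W, ψ (i w) * conj (ψ (i w)) = ψ 1 * ψ 1 := by
    intro w
    have h1 := hc 1 w
    rw [one_mul] at h1
    have h3 := Characters.Linear.norm_hom_apply l w
    have h4 : ((l w : ℂˣ) : ℂ) * conj ((l w : ℂˣ) : ℂ) = 1 := by
      rw [Complex.mul_conj, Complex.normSq_eq_norm_sq, h3]
      norm_num
    obtain ⟨n, hn, h5⟩ := isIrr_apply_one hψ
    rw [h1, map_mul, h5]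
    have h6 : conj (n : ℂ) = n := Complex.conj_natCast n
    rw [h6]
    linear_combination (n : ℂ) * n * h4
  have h1 := classInner_irr_self hψ
  rw [classInner_def] at h1
  have hm0 : (Nat.card P : ℂ) ≠ 0 := card_ne_zero_complex
  have h2 : ∑ g : P, ψ g * conj (ψ g) = (Nat.card W : ℂ) * (ψ 1 * ψ 1) := by
    have h3 : ∀ g : P, ψ g * conj (ψ g) = if g ∈ i.range then ψ 1 * ψ 1 else 0 := by
      intro g
      split_ifs with h
      · obtain ⟨w, rfl⟩ := h
        exact hon w
      · rw [hoff g h, zero_mul]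
    rw [Finset.sum_congr rfl fun g _ => h3 g, ← Finset.sum_filter, Finset.sum_const, nsmul_eq_mul]
    congr 2
    rw [Nat.card_congr (MonoidHom.ofInjective hi).toEquiv, Nat.card_eq_fintype_card, Fintype.card_subtype]
  rw [h2, Cfsg.Agent.Blocks.Basic.irr_one_eq_charDegree hψ] at h1
  have h3 : (Nat.card W : ℂ) * ((charDegree ψ : ℂ) * charDegree ψ) = Nat.card P := by
    field_simp at h1
    linear_combination h1
  have h4 : ((charDegree ψ ^ 2 * Nat.card W : ℕ) : ℂ) = Nat.card P := by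
    push_cast
    rw [← h3]
    ring
  exact_mod_cast h4

/-- the linear character of `W` below an irreducible character -/
theorem exists_lin (hcen : ∀ (w : W) (g : P), g * i w = i w * g) {ψ : P → ℂ} (hψ : IsIrrCharacter P ψ) :
    ∃ l : W →* ℂˣ, ∀ (x : P) (w : W), ψ (x * i w) = ψ x * (l w : ℂ) := by
  obtain ⟨c, hc, -⟩ := Cfsg.Agent.CharactersDeep.Extraspecial.exists_central_hom hψ
  let j : W →* Subgroup.center P := i.codRestrict _ fun w => Subgroup.mem_center_iff.2 fun g => hcen w g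
  exact ⟨c.comp j, fun x w => hc x (j w)⟩

/-- **The degree bound.** -/
theorem sum_le [Fintype W] (hi : Function.Injective i) (hcen : ∀ (w : W) (g : P), g * i w = i w * g) {θ : P → ℂ}
    (hθ : IsCharacter P θ) (L : Finset (W →* ℂˣ))
    (hnd : ∀ l ∈ L, ∀ x : P, x ∉ i.range → ∃ (y : P) (w : W), x * y * x⁻¹ * y⁻¹ = i w ∧ l w ≠ 1)
    (hocc : ∀ l ∈ L, classInner (fun w : W => θ (i w)) (fun w => (l w : ℂ)) ≠ 0) {m : ℕ}
    (hm : m ^ 2 * Nat.card W ≤ Nat.card P) : L.card * m ≤ charDegree θ := by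
  classical
  have := Fintype.ofFinite P
  have := finite_irr (G := P)
  have := Fintype.ofFinite (IrrCharacter P)
  obtain ⟨k, hk⟩ := exists_nat_comb hθ
  have hkc : θ = ∑ ψ : IrrCharacter P, (k ψ : ℂ) • (ψ : P → ℂ) := by
    rw [hk]
    exact Finset.sum_congr rfl fun ψ _ => by rw [Nat.cast_smul_eq_nsmul]
  have hlin : ∀ ψ : IrrCharacter P, ∃ l : W →* ℂˣ, ∀ (x : P) (w : W), (ψ : P → ℂ) (x * i w) = (ψ : P → ℂ) x * (l w : ℂ) :=
    fun ψ => exists_lin hcen ψ.2
  choose mu hmu using hlin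
  have hrestr : ∀ ψ : IrrCharacter P, (fun w : W => (ψ : P → ℂ) (i w)) =
      (charDegree (ψ : P → ℂ) : ℂ) • fun w : W => (mu ψ w : ℂ) := by
    intro ψ
    funext w
    have h1 := hmu ψ 1 w
    rw [one_mul] at h1
    rw [Pi.smul_apply, smul_eq_mul, ← Cfsg.Agent.Blocks.Basic.irr_one_eq_charDegree ψ.2]
    exact h1
  -- constituents
  have hex : ∀ l ∈ L, ∃ ψ : IrrCharacter P, k ψ ≠ 0 ∧ mu ψ = l := by
    intro l hl
    by_contra hcon
    push Not at hcon
    apply hocc l hl
    have h1 : (fun w : W => θ (i w)) = ∑ ψ : IrrCharacter P, (k ψ : ℂ) • (fun w : W => (ψ : P → ℂ) (i w)) := by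
      funext w
      rw [Finset.sum_apply, hkc, Finset.sum_apply]
      exact Finset.sum_congr rfl fun ψ _ => by simp
    rw [h1, classInner_sum_left]
    refine Finset.sum_eq_zero fun ψ _ => ?_
    rw [classInner_smul_left]
    rcases eq_or_ne (k ψ) 0 with h0 | h0
    · rw [h0, Nat.cast_zero, zero_mul]
    · rw [hrestr ψ, classInner_smul_left, classInner_irr_ne (Characters.Linear.isIrrCharacter_hom (mu ψ))
        (Characters.Linear.isIrrCharacter_hom l) (fun h2 => hcon ψ h0 (by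
          ext a
          exact congrFun h2 a)), mul_zero, mul_zero]
  have : Nonempty (IrrCharacter P) := ⟨⟨1, isIrr_one⟩⟩
  choose! J hJ using hex
  have hJinj : Set.InjOn J L := by
    intro l hl l' hl' h
    rw [← (hJ l hl).2, ← (hJ l' hl').2, h]
  have hdeg : charDegree θ = ∑ ψ : IrrCharacter P, k ψ * charDegree (ψ : P → ℂ) := by
    have h1 := charDegree_cast hθ
    have h2 : (charDegree θ : ℂ) = ((∑ ψ : IrrCharacter P, k ψ * charDegree (ψ : P → ℂ) : ℕ) : ℂ) := by
      rw [h1, hkc, Finset.sum_apply]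
      push_cast
      refine Finset.sum_congr rfl fun ψ _ => ?_
      rw [Pi.smul_apply, smul_eq_mul, Cfsg.Agent.Blocks.Basic.irr_one_eq_charDegree ψ.2]
    exact_mod_cast h2
  have hm' : ∀ l ∈ L, m ≤ k (J l) * charDegree (J l : P → ℂ) := by
    intro l hl
    have h1 := sq_deg hi hcen (hnd l hl) (J l).2 (by
      intro x w
      rw [hmu (J l) x w, (hJ l hl).2])
    have h2 : m ^ 2 ≤ charDegree (J l : P → ℂ) ^ 2 := by
      rw [← h1] at hm
      exact Nat.le_of_mul_le_mul_right hm Nat.card_pos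
    have h3 := (Nat.pow_le_pow_iff_left two_ne_zero).1 h2
    have h4 : 1 ≤ k (J l) := Nat.one_le_iff_ne_zero.2 (hJ l hl).1
    nlinarith
  rw [hdeg]
  calc L.card * m = ∑ l ∈ L, m := by rw [Finset.sum_const, smul_eq_mul]
    _ ≤ ∑ l ∈ L, k (J l) * charDegree (J l : P → ℂ) := Finset.sum_le_sum hm'
    _ = ∑ ψ ∈ L.image J, k ψ * charDegree (ψ : P → ℂ) := by
      rw [Finset.sum_image hJinj]
    _ ≤ _ := Finset.sum_le_sum_of_subset (Finset.subset_univ _)

end Cfsg.Agent.H363.Cyc.CharSum
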