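import Cfsg.Agent.H363.Cyc.CycNum

/-!
# Values of cyclotomic polynomials at 2 and 3 (helper363, TEAM TWOCYC)

`bound_two`, `bound_three` : the products `∏_{d ∈ S} Φ_d(q)`, `∑ φ(d) ≤ 4`; `bound_three6` : `∑ φ(d) ≤ 6`, `q = 3`.
-/

set_option autoImplicit false
set_option linter.unusedSimpArgs false

namespace Cfsg.Agent.H363.Cyc.CycNum

open Polynomial


theorem c1_2 : (cyclotomic 1 ℤ).eval (2 : ℤ) = 1 := by
  rw [cyclotomic_one]; simp

theorem c2_2 : (cyclotomic 2 ℤ).eval (2 : ℤ) = 3 := by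
  refine eval_eq (c := 1) (by norm_num) ?_ (by norm_num) (by norm_num)
  rw [show Nat.properDivisors 2 = {1} by decide +kernel]
  simp [c1_2]

theorem c3_2 : (cyclotomic 3 ℤ).eval (2 : ℤ) = 7 := by
  refine eval_eq (c := 1) (by norm_num) ?_ (by norm_num) (by norm_num)
  rw [show Nat.properDivisors 3 = {1} by decide +kernel]
  simp [c1_2]

theorem c4_2 : (cyclotomic 4 ℤ).eval (2 : ℤ) = 5 := by
  refine eval_eq (c := 3) (by norm_num) ?_ (by norm_num) (by norm_num)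
  rw [show Nat.properDivisors 4 = {1, 2} by decide +kernel]
  simp [c1_2, c2_2]

theorem c5_2 : (cyclotomic 5 ℤ).eval (2 : ℤ) = 31 := by
  refine eval_eq (c := 1) (by norm_num) ?_ (by norm_num) (by norm_num)
  rw [show Nat.properDivisors 5 = {1} by decide +kernel]
  simp [c1_2]

theorem c6_2 : (cyclotomic 6 ℤ).eval (2 : ℤ) = 3 := by
  refine eval_eq (c := 21) (by norm_num) ?_ (by norm_num) (by norm_num)
  rw [show Nat.properDivisors 6 = {1, 2, 3} by decide +kernel]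
  simp [c1_2, c2_2, c3_2]

theorem c7_2 : (cyclotomic 7 ℤ).eval (2 : ℤ) = 127 := by
  refine eval_eq (c := 1) (by norm_num) ?_ (by norm_num) (by norm_num)
  rw [show Nat.properDivisors 7 = {1} by decide +kernel]
  simp [c1_2]

theorem c8_2 : (cyclotomic 8 ℤ).eval (2 : ℤ) = 17 := by
  refine eval_eq (c := 15) (by norm_num) ?_ (by norm_num) (by norm_num)
  rw [show Nat.properDivisors 8 = {1, 2, 4} by decide +kernel]
  simp [c1_2, c2_2, c4_2]

theorem c9_2 : (cyclotomic 9 ℤ).eval (2 : ℤ) = 73 := by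
  refine eval_eq (c := 7) (by norm_num) ?_ (by norm_num) (by norm_num)
  rw [show Nat.properDivisors 9 = {1, 3} by decide +kernel]
  simp [c1_2, c3_2]

theorem c10_2 : (cyclotomic 10 ℤ).eval (2 : ℤ) = 11 := by
  refine eval_eq (c := 93) (by norm_num) ?_ (by norm_num) (by norm_num)
  rw [show Nat.properDivisors 10 = {1, 2, 5} by decide +kernel]
  simp [c1_2, c2_2, c5_2]

theorem c12_2 : (cyclotomic 12 ℤ).eval (2 : ℤ) = 13 := by
  refine eval_eq (c := 315) (by norm_num) ?_ (by norm_num) (by norm_num)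
  rw [show Nat.properDivisors 12 = {1, 2, 3, 4, 6} by decide +kernel]
  simp [c1_2, c2_2, c3_2, c4_2, c6_2]

theorem c14_2 : (cyclotomic 14 ℤ).eval (2 : ℤ) = 43 := by
  refine eval_eq (c := 381) (by norm_num) ?_ (by norm_num) (by norm_num)
  rw [show Nat.properDivisors 14 = {1, 2, 7} by decide +kernel]
  simp [c1_2, c2_2, c7_2]

theorem c18_2 : (cyclotomic 18 ℤ).eval (2 : ℤ) = 57 := by
  refine eval_eq (c := 4599) (by norm_num) ?_ (by norm_num) (by norm_num)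
  rw [show Nat.properDivisors 18 = {1, 2, 3, 6, 9} by decide +kernel]
  simp [c1_2, c2_2, c3_2, c6_2, c9_2]

theorem c1_3 : (cyclotomic 1 ℤ).eval (3 : ℤ) = 2 := by
  rw [cyclotomic_one]; simp

theorem c2_3 : (cyclotomic 2 ℤ).eval (3 : ℤ) = 4 := by
  refine eval_eq (c := 2) (by norm_num) ?_ (by norm_num) (by norm_num)
  rw [show Nat.properDivisors 2 = {1} by decide +kernel]
  simp [c1_3]

theorem c3_3 : (cyclotomic 3 ℤ).eval (3 : ℤ) = 13 := by
  refine eval_eq (c := 2) (by norm_num) ?_ (by norm_num) (by norm_num)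
  rw [show Nat.properDivisors 3 = {1} by decide +kernel]
  simp [c1_3]

theorem c4_3 : (cyclotomic 4 ℤ).eval (3 : ℤ) = 10 := by
  refine eval_eq (c := 8) (by norm_num) ?_ (by norm_num) (by norm_num)
  rw [show Nat.properDivisors 4 = {1, 2} by decide +kernel]
  simp [c1_3, c2_3]

theorem c5_3 : (cyclotomic 5 ℤ).eval (3 : ℤ) = 121 := by
  refine eval_eq (c := 2) (by norm_num) ?_ (by norm_num) (by norm_num)
  rw [show Nat.properDivisors 5 = {1} by decide +kernel]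
  simp [c1_3]

theorem c6_3 : (cyclotomic 6 ℤ).eval (3 : ℤ) = 7 := by
  refine eval_eq (c := 104) (by norm_num) ?_ (by norm_num) (by norm_num)
  rw [show Nat.properDivisors 6 = {1, 2, 3} by decide +kernel]
  simp [c1_3, c2_3, c3_3]

theorem c7_3 : (cyclotomic 7 ℤ).eval (3 : ℤ) = 1093 := by
  refine eval_eq (c := 2) (by norm_num) ?_ (by norm_num) (by norm_num)
  rw [show Nat.properDivisors 7 = {1} by decide +kernel]
  simp [c1_3]

theorem c8_3 : (cyclotomic 8 ℤ).eval (3 : ℤ) = 82 := by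
  refine eval_eq (c := 80) (by norm_num) ?_ (by norm_num) (by norm_num)
  rw [show Nat.properDivisors 8 = {1, 2, 4} by decide +kernel]
  simp [c1_3, c2_3, c4_3]

theorem c9_3 : (cyclotomic 9 ℤ).eval (3 : ℤ) = 757 := by
  refine eval_eq (c := 26) (by norm_num) ?_ (by norm_num) (by norm_num)
  rw [show Nat.properDivisors 9 = {1, 3} by decide +kernel]
  simp [c1_3, c3_3]

theorem c10_3 : (cyclotomic 10 ℤ).eval (3 : ℤ) = 61 := by
  refine eval_eq (c := 968) (by norm_num) ?_ (by norm_num) (by norm_num)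
  rw [show Nat.properDivisors 10 = {1, 2, 5} by decide +kernel]
  simp [c1_3, c2_3, c5_3]

theorem c12_3 : (cyclotomic 12 ℤ).eval (3 : ℤ) = 73 := by
  refine eval_eq (c := 7280) (by norm_num) ?_ (by norm_num) (by norm_num)
  rw [show Nat.properDivisors 12 = {1, 2, 3, 4, 6} by decide +kernel]
  simp [c1_3, c2_3, c3_3, c4_3, c6_3]

theorem c14_3 : (cyclotomic 14 ℤ).eval (3 : ℤ) = 547 := by
  refine eval_eq (c := 8744) (by norm_num) ?_ (by norm_num) (by norm_num)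
  rw [show Nat.properDivisors 14 = {1, 2, 7} by decide +kernel]
  simp [c1_3, c2_3, c7_3]

theorem c18_3 : (cyclotomic 18 ℤ).eval (3 : ℤ) = 703 := by
  refine eval_eq (c := 551096) (by norm_num) ?_ (by norm_num) (by norm_num)
  rw [show Nat.properDivisors 18 = {1, 2, 3, 6, 9} by decide +kernel]
  simp [c1_3, c2_3, c3_3, c6_3, c9_3]

/-- the values at 2 -/
def v2 (d : ℕ) : ℕ := if d = 1 then 1 else if d = 2 then 3 else if d = 3 then 7 else if d = 4 then 5 else if d = 5 then 31 else if d = 6 then 3 else if d = 7 then 127 else if d = 8 then 17 else if d = 9 then 73 else if d = 10 then 11 else if d = 12 then 13 else if d = 14 then 43 else if d = 18 then 57 else 0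

theorem v2_eq : ∀ d ∈ ({1, 2, 3, 4, 5, 6, 7, 8, 9, 10, 12, 14, 18} : Finset ℕ), (cyclotomic d ℤ).eval (2 : ℤ) = (v2 d : ℤ) := by
  intro d hd
  simp only [Finset.mem_insert, Finset.mem_singleton] at hd
  rcases hd with rfl | rfl | rfl | rfl | rfl | rfl | rfl | rfl | rfl | rfl | rfl | rfl | rfl
  · rw [c1_2]; rfl
  · rw [c2_2]; rfl
  · rw [c3_2]; rfl
  · rw [c4_2]; rfl
  · rw [c5_2]; rfl
  · rw [c6_2]; rfl
  · rw [c7_2]; rfl
  · rw [c8_2]; rfl
  · rw [c9_2]; rfl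
  · rw [c10_2]; rfl
  · rw [c12_2]; rfl
  · rw [c14_2]; rfl
  · rw [c18_2]; rfl

/-- the values at 3 -/
def v3 (d : ℕ) : ℕ := if d = 1 then 2 else if d = 2 then 4 else if d = 3 then 13 else if d = 4 then 10 else if d = 5 then 121 else if d = 6 then 7 else if d = 7 then 1093 else if d = 8 then 82 else if d = 9 then 757 else if d = 10 then 61 else if d = 12 then 73 else if d = 14 then 547 else if d = 18 then 703 else 0

theorem v3_eq : ∀ d ∈ ({1, 2, 3, 4, 5, 6, 7, 8, 9, 10, 12, 14, 18} : Finset ℕ), (cyclotomic d ℤ).eval (3 : ℤ) = (v3 d : ℤ) := by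
  intro d hd
  simp only [Finset.mem_insert, Finset.mem_singleton] at hd
  rcases hd with rfl | rfl | rfl | rfl | rfl | rfl | rfl | rfl | rfl | rfl | rfl | rfl | rfl
  · rw [c1_3]; rfl
  · rw [c2_3]; rfl
  · rw [c3_3]; rfl
  · rw [c4_3]; rfl
  · rw [c5_3]; rfl
  · rw [c6_3]; rfl
  · rw [c7_3]; rfl
  · rw [c8_3]; rfl
  · rw [c9_3]; rfl
  · rw [c10_3]; rfl
  · rw [c12_3]; rfl
  · rw [c14_3]; rfl
  · rw [c18_3]; rfl

theorem filt4 : ((Finset.Icc 1 32).filter fun d => Nat.totient d ≤ 4) = {1, 2, 3, 4, 5, 6, 8, 10, 12} := by decide +kernel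

theorem filt6 : ((Finset.Icc 1 72).filter fun d => Nat.totient d ≤ 6) =
    {1, 2, 3, 4, 5, 6, 7, 8, 9, 10, 12, 14, 18} := by decide +kernel

theorem sub4 {S : Finset ℕ} (h0 : ∀ d ∈ S, 0 < d) (hl : ∑ d ∈ S, Nat.totient d ≤ 4) :
    S ⊆ {1, 2, 3, 4, 5, 6, 8, 10, 12} := by
  rw [← filt4]
  exact mem_of_totient h0 hl (by norm_num)

theorem sub6 {S : Finset ℕ} (h0 : ∀ d ∈ S, 0 < d) (hl : ∑ d ∈ S, Nat.totient d ≤ 6) :
    S ⊆ {1, 2, 3, 4, 5, 6, 7, 8, 9, 10, 12, 14, 18} := by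
  rw [← filt6]
  exact mem_of_totient h0 hl (by norm_num)

theorem chk_two : ∀ S ∈ ({1, 2, 3, 4, 5, 6, 8, 10, 12} : Finset ℕ).powerset, ∑ d ∈ S, Nat.totient d ≤ 4 →
    ∏ d ∈ S, v2 d ≤ 21 ∨ S = {3, 4} ∨ S = {5} := by decide +kernel

theorem chk_three : ∀ S ∈ ({1, 2, 3, 4, 5, 6, 8, 10, 12} : Finset ℕ).powerset, ∑ d ∈ S, Nat.totient d ≤ 4 →
    ∏ d ∈ S, v3 d ≤ 121 ∨ S = {3, 4} := by decide +kernel

/-- the largest product `∏ v d` over the sublists of total weight `∑ φ(d) ≤ b` -/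
def best (f v : ℕ → ℕ) : List ℕ → ℕ → ℕ
  | [], _ => 1
  | d :: l, b => max (best f v l b) (if f d ≤ b then v d * best f v l (b - f d) else 0)

theorem le_best (f v : ℕ → ℕ) : ∀ (l : List ℕ) (b : ℕ) (S : Finset ℕ), S ⊆ l.toFinset → ∑ d ∈ S, f d ≤ b →
    ∏ d ∈ S, v d ≤ best f v l b := by
  intro l
  induction l with
  | nil =>
    intro b S hS _
    rw [List.toFinset_nil, Finset.subset_empty] at hS
    subst hS
    rw [Finset.prod_empty]
    exact le_rfl
  | cons d l ih =>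
    intro b S hS hb
    by_cases hd : d ∈ S
    · have h1 : S.erase d ⊆ l.toFinset := by
        intro x hx
        rw [Finset.mem_erase] at hx
        have h2 := hS hx.2
        rw [List.toFinset_cons, Finset.mem_insert] at h2
        exact h2.resolve_left hx.1
      have h2 := Finset.add_sum_erase S f hd
      have h3 := Finset.mul_prod_erase S v hd
      have h4 : f d ≤ b := by omega
      have h5 := ih (b - f d) (S.erase d) h1 (by omega)
      rw [← h3]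
      refine le_trans ?_ (le_max_right _ _)
      rw [if_pos h4]
      exact Nat.mul_le_mul_left _ h5
    · have h1 : S ⊆ l.toFinset := by
        intro x hx
        have h2 := hS hx
        rw [List.toFinset_cons, Finset.mem_insert] at h2
        rcases h2 with rfl | h2
        · exact absurd hx hd
        · exact h2
      exact (ih b S h1 hb).trans (le_max_left _ _)

theorem chk_three6 : ∀ S ∈ ({1, 2, 3, 4, 5, 6, 7, 8, 9, 10, 12, 14, 18} : Finset ℕ).powerset,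
    ∑ d ∈ S, Nat.totient d ≤ 6 → ∏ d ∈ S, v3 d ≤ 1573 := by
  intro S hS hb
  have h1 := le_best Nat.totient v3 [1, 2, 3, 4, 5, 6, 7, 8, 9, 10, 12, 14, 18] 6 S
    (by simpa using Finset.mem_powerset.1 hS) hb
  have h2 : best Nat.totient v3 [1, 2, 3, 4, 5, 6, 7, 8, 9, 10, 12, 14, 18] 6 = 1573 := by decide +kernel
  rwa [h2] at h1

theorem prod_eq {q : ℕ} {v : ℕ → ℕ} {S T : Finset ℕ} (hT : ∀ d ∈ T, (cyclotomic d ℤ).eval (q : ℤ) = (v d : ℤ))
    (hS : S ⊆ T) : ∏ d ∈ S, (cyclotomic d ℤ).eval (q : ℤ) = ((∏ d ∈ S, v d : ℕ) : ℤ) := by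
  rw [Nat.cast_prod]
  exact Finset.prod_congr rfl fun d hd => hT d (hS hd)

theorem le_of_dvd_prod {q : ℕ} (hq : 2 ≤ q) {v : ℕ → ℕ} {S T : Finset ℕ}
    (hT : ∀ d ∈ T, (cyclotomic d ℤ).eval (q : ℤ) = (v d : ℤ)) (hS : S ⊆ T) {n m : ℕ}
    (hn : (n : ℤ) ∣ ∏ d ∈ S, (cyclotomic d ℤ).eval (q : ℤ)) (hm : ∏ d ∈ S, v d ≤ m) : n ≤ m := by
  have h1 : 0 < ∏ d ∈ S, (cyclotomic d ℤ).eval (q : ℤ) := Finset.prod_pos fun d _ => eval_pos hq d
  rw [prod_eq hT hS] at hn h1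
  have h2 := Nat.le_of_dvd (by exact_mod_cast h1) (Int.natCast_dvd_natCast.1 hn)
  exact h2.trans hm

theorem T4_sub : ({1, 2, 3, 4, 5, 6, 8, 10, 12} : Finset ℕ) ⊆ {1, 2, 3, 4, 5, 6, 7, 8, 9, 10, 12, 14, 18} := by
  decide +kernel

/-- `q = 2`, rank 4 -/
theorem bound_two {S : Finset ℕ} (h0 : ∀ d ∈ S, 0 < d) (hl : ∑ d ∈ S, Nat.totient d ≤ 4) {n : ℕ}
    (hn : (n : ℤ) ∣ ∏ d ∈ S, (cyclotomic d ℤ).eval ((2 : ℕ) : ℤ)) : n ≤ 21 ∨ S = {3, 4} ∨ n ∣ 31 := by
  have h1 := sub4 h0 hl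
  rcases chk_two S (Finset.mem_powerset.2 h1) hl with h2 | h2 | h2
  · exact Or.inl (le_of_dvd_prod le_rfl v2_eq (h1.trans T4_sub) hn h2)
  · exact Or.inr (Or.inl h2)
  · right; right
    rw [h2, Finset.prod_singleton] at hn
    have h3 : (cyclotomic 5 ℤ).eval ((2 : ℕ) : ℤ) = 31 := c5_2
    rw [h3] at hn
    exact_mod_cast hn

/-- `q = 3`, rank 4 -/
theorem bound_three {S : Finset ℕ} (h0 : ∀ d ∈ S, 0 < d) (hl : ∑ d ∈ S, Nat.totient d ≤ 4) {n : ℕ}
    (hn : (n : ℤ) ∣ ∏ d ∈ S, (cyclotomic d ℤ).eval ((3 : ℕ) : ℤ)) : n ≤ 121 ∨ S = {3, 4} := by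
  have h1 := sub4 h0 hl
  rcases chk_three S (Finset.mem_powerset.2 h1) hl with h2 | h2
  · exact Or.inl (le_of_dvd_prod (by norm_num) v3_eq (h1.trans T4_sub) hn h2)
  · exact Or.inr h2

/-- `q = 3`, rank 6 -/
theorem bound_three6 {S : Finset ℕ} (h0 : ∀ d ∈ S, 0 < d) (hl : ∑ d ∈ S, Nat.totient d ≤ 6) {n : ℕ}
    (hn : (n : ℤ) ∣ ∏ d ∈ S, (cyclotomic d ℤ).eval ((3 : ℕ) : ℤ)) : n ≤ 1573 := by
  have h1 := sub6 h0 hl
  exact le_of_dvd_prod (by norm_num) v3_eq h1 hn (chk_three6 S (Finset.mem_powerset.2 h1) hl)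

end Cfsg.Agent.H363.Cyc.CycNum
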