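import Cfsg.Agent.H363.Cyc.ExpU

/-!
# Exponents of the unipotent elements: the tables (helper363, TEAM TWOCYC)

For `D = G₂, F₄, E₆` and `F` finite of characteristic `p`: `g ^ (p ^ n) = 1` implies `g ^ (p ^ k) = 1` as soon as
`p ^ k ≥ h`, `h = 6, 12, 12` (`E₇`, `E₈` in `ExpE.lean`).
-/

set_option autoImplicit false

namespace Cfsg.Agent.H363.Cyc.ExpU

open Cfsg.Lie Cfsg.Agent.ChevalleyStructure

universe u

/-- heights of the roots of `G₂` -/
def htG2 (r : ℕ) : ℤ := ([-5, -4, -3, -2, -1, -1, 1, 1, 2, 3, 4, 5] : List ℤ).getD r 0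

/-- heights of the roots of `F₄` -/
def htF4 (r : ℕ) : ℤ := ([-11, -10, -9, -8, -7, -6, -5, -7, -6, -5, -4, -4, -3, -2, -1, -5, -4, -3, -3, -2, -1, -2, -1,
  -1, 1, 1, 2, 1, 2, 3, 3, 4, 5, 1, 2, 3, 4, 4, 5, 6, 7, 5, 6, 7, 8, 9, 10, 11] : List ℤ).getD r 0

/-- heights of the coroots -/
def htC (D : ChevalleyDatum) (r : ℕ) : ℤ := (D.coroot.getD r #[]).toList.sum

theorem hlG2 : HL chevG2 htG2 6 where
  gr := by decide +kernel
  pos := by decide +kernel
  lt := by decide +kernel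
  cop := by decide +kernel

theorem hlF4 : HL chevF4 htF4 12 where
  gr := by decide +kernel
  pos := by decide +kernel
  lt := by decide +kernel
  cop := by decide +kernel

theorem hlE6 : HL chevE6 (htC chevE6) 12 where
  gr := by decide +kernel
  pos := by decide +kernel
  lt := by decide +kernel
  cop := by decide +kernel

section

variable {F : Type u} [Field F] [Fintype F] {p : ℕ} [Fact p.Prime] [CharP F p] {n k : ℕ}

theorem pow_G2 {g : ↥(chevG2.group F)} (hg : g ^ p ^ n = 1) (hk : 6 ≤ p ^ k) : g ^ p ^ k = 1 :=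
  pow_eq_one (by simp) hlG2 hg (by exact_mod_cast hk)

theorem pow_F4 {g : ↥(chevF4.group F)} (hg : g ^ p ^ n = 1) (hk : 12 ≤ p ^ k) : g ^ p ^ k = 1 :=
  pow_eq_one (by simp) hlF4 hg (by exact_mod_cast hk)

theorem pow_E6 {g : ↥(chevE6.group F)} (hg : g ^ p ^ n = 1) (hk : 12 ≤ p ^ k) : g ^ p ^ k = 1 :=
  pow_eq_one (by simp) hlE6 hg (by exact_mod_cast hk)

/-- the same for a subgroup of `E₆(K)`, for instance `²E₆(q)` -/
theorem pow_sub_E6 {X : Subgroup (GL chevE6.Idx F)} (hX : X ≤ chevE6.group F) {g : ↥X} (hg : g ^ p ^ n = 1)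
    (hk : 12 ≤ p ^ k) : g ^ p ^ k = 1 := by
  have h0 : (g : GL chevE6.Idx F) ^ p ^ n = 1 := congrArg Subtype.val hg
  have h1 : (⟨g, hX g.2⟩ : ↥(chevE6.group F)) ^ p ^ k = 1 := pow_E6 (p := p) (n := n) (Subtype.ext h0) hk
  have h2 : (g : GL chevE6.Idx F) ^ p ^ k = 1 := congrArg Subtype.val h1
  exact Subtype.ext h2

end

/-- **Orders from the orders of the `p'`-elements and of the `p`-elements.** -/
theorem orderOf_le_mul {G : Type*} [Group G] [Finite G] {p : ℕ} (hp : p.Prime) {A B : ℕ}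
    (hA : ∀ x : G, (orderOf x).Coprime p → orderOf x ≤ A) (hB : ∀ (x : G) (n : ℕ), x ^ p ^ n = 1 → orderOf x ≤ B)
    (x : G) : orderOf x ≤ A * B := by
  have h0 : orderOf x ≠ 0 := (orderOf_pos x).ne'
  obtain ⟨a, m, hm, he⟩ := Nat.exists_eq_pow_mul_and_not_dvd h0 p hp.ne_one
  have hm0 : m ≠ 0 := by
    rintro rfl
    exact hm (dvd_zero _)
  have hpa : p ^ a ≠ 0 := pow_ne_zero _ hp.ne_zero
  have h1 : orderOf (x ^ p ^ a) = m := by
    rw [orderOf_pow, he, Nat.gcd_eq_right (Dvd.intro _ rfl), Nat.mul_div_cancel_left _ (Nat.pos_of_ne_zero hpa)]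
  have h2 : orderOf (x ^ m) = p ^ a := by
    rw [orderOf_pow, he, Nat.gcd_eq_right (Dvd.intro_left _ rfl), Nat.mul_div_cancel _ (Nat.pos_of_ne_zero hm0)]
  have h3 := hA (x ^ p ^ a) (by rw [h1]; exact ((Nat.Prime.coprime_iff_not_dvd hp).2 hm).symm)
  have h4 := hB (x ^ m) a (by rw [← h2, pow_orderOf_eq_one])
  rw [h1] at h3
  rw [h2] at h4
  rw [he, mul_comm]
  exact Nat.mul_le_mul h3 h4

end Cfsg.Agent.H363.Cyc.ExpU
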