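import Cfsg.Agent.ChevalleyStructure.Grading
import Cfsg.Agent.ChevalleyStructure.Columns
import Cfsg.Agent.ChevalleyStructure.UnipProd
import Cfsg.Agent.S2326

/-!
# Unipotent elements of the exceptional Chevalley groups (helper363, TEAM TWOCYC)

`ht` a height function of `D` with values `< h`, `g ∈ U`: `g - 1` raises the height; if it raises it by `h` then
`g = 1` (`eq_one_of_gr`).  Consequence (`pow_eq_one`): a `p`-element `g` of `D.group F`, `F` finite of characteristic
`p`, satisfies `g ^ (p ^ k) = 1` as soon as `p ^ k ≥ h`, `h` the Coxeter number.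
-/

set_option autoImplicit false

namespace Cfsg.Agent.H363.Cyc.ExpU

open Cfsg.Lie Cfsg.Agent.ChevalleyStructure Cfsg.Agent.ChevalleyStructure.Elts
open Cfsg.Agent.ChevalleyStructure.UnipProd

universe u

/-- a height function -/
structure HL (D : ChevalleyDatum) (ht : ℕ → ℤ) (h : ℤ) : Prop where
  gr : ∀ r < D.nroots, Grading.gradeCheck D ht r = true
  pos : ∀ r < D.nroots, D.nroots / 2 ≤ r → 1 ≤ ht r
  lt : ∀ r < D.nroots, ht r < h
  cop : ∀ r < D.nroots, ∃ i < D.rank, ∃ j < D.rank, Int.gcd (D.cartan i r) (D.cartan j r) = 1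

section Gr

variable {D : ChevalleyDatum} {ht : ℕ → ℤ} {K : Type u} [Field K]

/-- the weight of a coordinate -/
def wt (D : ChevalleyDatum) (ht : ℕ → ℤ) : D.Idx → ℤ
  | Sum.inl _ => 0
  | Sum.inr s => ht s.val

/-- `A` is supported in degrees `≥ m`. -/
def Gr (ht : ℕ → ℤ) (m : ℤ) (A : Matrix D.Idx D.Idx K) : Prop := ∀ k l, wt D ht k - wt D ht l < m → A k l = 0

theorem Gr.mono {m n : ℤ} {A : Matrix D.Idx D.Idx K} (h : Gr ht m A) (hnm : n ≤ m) : Gr ht n A :=
  fun k l hkl => h k l (by omega)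

theorem Gr.add {m : ℤ} {A B : Matrix D.Idx D.Idx K} (hA : Gr ht m A) (hB : Gr ht m B) : Gr ht m (A + B) :=
  fun k l h => by rw [Matrix.add_apply, hA k l h, hB k l h, add_zero]

theorem Gr.mul {m n : ℤ} {A B : Matrix D.Idx D.Idx K} (hA : Gr ht m A) (hB : Gr ht n B) :
    Gr ht (m + n) (A * B) := by
  intro k l h
  rw [Matrix.mul_apply]
  refine Finset.sum_eq_zero fun j _ => ?_
  by_cases h1 : wt D ht k - wt D ht j < m
  · rw [hA k j h1, zero_mul]
  · rw [hB j l (by omega), mul_zero]

theorem Gr.zero_one : Gr ht 0 (1 : Matrix D.Idx D.Idx K) := by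
  intro k l h
  rw [Matrix.one_apply_ne]
  rintro rfl
  omega

theorem gr_zero (m : ℤ) : Gr ht m (0 : Matrix D.Idx D.Idx K) := fun _ _ _ => rfl

theorem Gr.pow {A : Matrix D.Idx D.Idx K} (hA : Gr ht 1 A) (n : ℕ) : Gr ht n (A ^ n) := by
  induction n with
  | zero => rw [pow_zero]; exact Gr.zero_one
  | succ n ih => rw [pow_succ]; exact (ih.mul hA).mono (by push_cast; omega)

theorem Gr.mul_sub {m : ℤ} (hm : 1 ≤ m) {a b : Matrix D.Idx D.Idx K} (ha : Gr ht m (a - 1)) (hb : Gr ht m (b - 1)) :
    Gr ht m (a * b - 1) := by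
  have e : a * b - 1 = (a - 1) * (b - 1) + ((a - 1) + (b - 1)) := by noncomm_ring
  rw [e]
  exact ((ha.mul hb).mono (by omega)).add (ha.add hb)

theorem one_le_of_mem_chainCoeff {r s u : ℕ} {km : ℕ × ℤ} (h : km ∈ D.chainCoeff r s u) : 1 ≤ km.1 := by
  unfold ChevalleyDatum.chainCoeff at h
  rw [List.mem_flatMap] at h
  obtain ⟨e, _, h⟩ := h
  rw [List.mem_map] at h
  obtain ⟨q, _, rfl⟩ := h
  exact Nat.succ_pos _

theorem gr_xMat {h : ℤ} (H : HL D ht h) (r : Fin D.nroots) (hr : 1 ≤ ht r.val) (t : K) :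
    Gr ht (ht r.val) (D.xMat K r t - 1) := by
  have hg := H.gr r.val r.2
  have hneg : ht (D.negIdx.getD r.val 0) = - ht r.val := by
    unfold Grading.gradeCheck at hg
    rw [Bool.and_eq_true] at hg
    exact of_decide_eq_true hg.1
  rintro (i | u) (j | s) hk
  · rw [Matrix.sub_apply, Columns.xMat_inl_inl, Matrix.one_apply]
    by_cases hij : i = j
    · subst hij; simp
    · simp [hij]
  · rw [Matrix.sub_apply, Columns.xMat_inl_inr, Matrix.one_apply_ne (by simp), sub_zero]
    by_cases hs : s = r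
    · rw [if_pos hs]
    · rw [if_neg hs, if_neg]
      intro h1
      have h2 : (0 : ℤ) - ht s.val < ht r.val := hk
      rw [h1, hneg] at h2
      omega
  · rw [Matrix.sub_apply, Columns.xMat_inr_inl, Matrix.one_apply_ne (by simp), sub_zero, if_neg]
    rintro rfl
    have h2 : ht u.val - 0 < ht u.val := hk
    omega
  · have h2 : ht u.val - ht s.val < ht r.val := hk
    rw [Matrix.sub_apply]
    show (if s = r then (if u = r then (1 : K) else 0) else if s.val = D.negIdx.getD r.val 0 then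
      (if u = s then (1 : K) else if u = r then -(t ^ 2) else 0) else (if u = s then (1 : K) else 0) +
             ((D.chainCoeff r.val s.val u.val).map fun km => ((km.2 : ℤ) : K) * t ^ km.1).sum) -
        (1 : Matrix D.Idx D.Idx K) (Sum.inr u) (Sum.inr s) = 0
    have h1 : (1 : Matrix D.Idx D.Idx K) (Sum.inr u) (Sum.inr s) = if u = s then 1 else 0 := by
      rw [Matrix.one_apply]
      by_cases hus : u = s
      · simp [hus]
      · simp [hus]
    rw [h1]
    by_cases hs : s = r
    · rw [if_pos hs, hs, sub_self]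
    · rw [if_neg hs]
      by_cases hn : s.val = D.negIdx.getD r.val 0
      · rw [if_pos hn]
        by_cases hus : u = s
        · rw [if_pos hus, if_pos hus, sub_self]
        · rw [if_neg hus, if_neg hus, sub_zero, if_neg]
          rintro rfl
          rw [hn, hneg] at h2
          omega
      · rw [if_neg hn, add_sub_cancel_left]
        have : D.chainCoeff r.val s.val u.val = [] := by
          rw [List.eq_nil_iff_forall_not_mem]
          intro km hkm
          have h3 := Grading.chainCoeff_grade D ht r.val hg s.val u.val km hkm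
          have h4 := one_le_of_mem_chainCoeff hkm
          rw [h3] at h2
          have h5 : (1 : ℤ) ≤ (km.1 : ℤ) := by exact_mod_cast h4
          nlinarith
        rw [this]
        rfl

end Gr

section Main

variable {D : ChevalleyDatum} {ht : ℕ → ℤ} {h : ℤ} {K : Type u} [Field K] (hD : InList D) (H : HL D ht h)

include H in
theorem gr_xG {r : ℕ} (hr : r < D.nroots) (hr' : D.nroots / 2 ≤ r) (t : K) :
    Gr ht (ht r) ((xG hD r t : GL D.Idx K).val - 1) := by
  have := gr_xMat H ⟨r, hr⟩ (H.pos r hr hr') t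
  rwa [← x_of_lt hr] at this

theorem gr_wordG {m : ℤ} (hm : 1 ≤ m) (w : List (ℕ × K)) (hw : ∀ p ∈ w, Gr ht m ((xG hD p.1 p.2 : GL D.Idx K).val - 1)) :
    Gr ht m ((wordG hD w : GL D.Idx K).val - 1) := by
  induction w with
  | nil => rw [wordG_nil]; simpa using gr_zero (D := D) (ht := ht) (K := K) m
  | cons p w ih =>
    rw [wordG_cons, Units.val_mul]
    exact Gr.mul_sub hm (hw p List.mem_cons_self) (ih fun q hq => hw q (List.mem_cons_of_mem _ hq))

/-- the entry at `(e_r, h_i)` of a product in lowest degree -/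
theorem entry_wordG {m : ℤ} (hm : 1 ≤ m) (w : List (ℕ × K))
    (hw : ∀ p ∈ w, Gr ht m ((xG hD p.1 p.2 : GL D.Idx K).val - 1)) (r : Fin D.nroots) (hr : ht r.val = m)
    (i : Fin D.rank) : (wordG hD w : GL D.Idx K).val (Sum.inr r) (Sum.inl i) =
      (w.map fun p => (xG hD p.1 p.2 : GL D.Idx K).val (Sum.inr r) (Sum.inl i)).sum := by
  have hne : ∀ A : Matrix D.Idx D.Idx K, (A - 1) (Sum.inr r) (Sum.inl i) = A (Sum.inr r) (Sum.inl i) := fun A => by
    rw [Matrix.sub_apply, Matrix.one_apply_ne (by simp), sub_zero]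
  induction w with
  | nil =>
    rw [wordG_nil, Units.val_one, Matrix.one_apply_ne (by simp)]
    rfl
  | cons p w ih =>
    have h1 := ih fun q hq => hw q (List.mem_cons_of_mem _ hq)
    have h2 : Gr ht m ((wordG hD w : GL D.Idx K).val - 1) := by
      clear ih h1
      have hw' : ∀ q ∈ w, Gr ht m ((xG hD q.1 q.2 : GL D.Idx K).val - 1) := fun q hq => hw q (List.mem_cons_of_mem _ hq)
      clear hw
      induction w with
      | nil => rw [wordG_nil]; simpa using gr_zero (D := D) (ht := ht) (K := K) m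
      | cons p w ih =>
        rw [wordG_cons, Units.val_mul]
        exact Gr.mul_sub hm (hw' p List.mem_cons_self) (ih fun q hq => hw' q (List.mem_cons_of_mem _ hq))
    rw [wordG_cons, Units.val_mul, List.map_cons, List.sum_cons, ← h1]
    set a := (xG hD p.1 p.2 : GL D.Idx K).val
    set b := (wordG hD w : GL D.Idx K).val
    have e : a * b = (a - 1) * (b - 1) + ((a - 1) + (b - 1)) + 1 := by noncomm_ring
    have h3 : ((a - 1) * (b - 1)) (Sum.inr r) (Sum.inl i) = 0 :=
      ((hw p List.mem_cons_self).mul h2) _ _ (by show ht r.val - 0 < m + m; omega)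
    rw [e, Matrix.add_apply, Matrix.add_apply, Matrix.add_apply, h3, hne, hne, Matrix.one_apply_ne (by simp)]
    ring

theorem exists_cartan (H : HL D ht h) {r : ℕ} (hr : r < D.nroots) : ∃ i : Fin D.rank, ((D.cartan i r : ℤ) : K) ≠ 0 := by
  obtain ⟨i, hi, j, hj, hc⟩ := H.cop r hr
  by_contra hcon
  push Not at hcon
  have h1 := hcon ⟨i, hi⟩
  have h2 := hcon ⟨j, hj⟩
  obtain ⟨a, b, hab⟩ := (Int.isCoprime_iff_gcd_eq_one.2 hc)
  have h3 := congrArg (fun z : ℤ => (z : K)) hab
  push_cast at h3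
  rw [h1, h2, mul_zero, mul_zero, add_zero] at h3
  exact zero_ne_one h3

include hD H in
/-- **An element of `U` raising the heights by `h` is trivial.** -/
theorem eq_one_of_gr {g : GL D.Idx K} (hg : g ∈ D.posUnipotent K) (hgr : Gr ht h (g.val - 1)) : g = 1 := by
  rw [← unipGE_eq_posUnipotent hD K le_rfl] at hg
  obtain ⟨t, ht0, hgt⟩ := exists_prod hD le_rfl hg
  have hmem : ∀ s, s ∈ rootsGE D (D.nroots / 2) ↔ D.nroots / 2 ≤ s ∧ s < D.nroots := by
    intro s
    unfold rootsGE
    rw [List.Ico.mem]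
  have hnd : (rootsGE D (D.nroots / 2)).Nodup := by
    unfold rootsGE
    exact List.Ico.nodup _ _
  have key : ∀ n : ℕ, ∀ r, D.nroots / 2 ≤ r → r < D.nroots → ht r ≤ n → t r = 0 := by
    intro n
    induction n with
    | zero =>
      intro r hr hr' h0
      have := H.pos r hr' hr
      push_cast at h0
      omega
    | succ n ih =>
      intro r hr hr' hn
      by_cases hn' : ht r ≤ n
      · exact ih r hr hr' hn'
      push_cast at hn
      have hrn : ht r = n + 1 := by omega
      have hfac : ∀ p ∈ (rootsGE D (D.nroots / 2)).map fun r => (r, t r),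
          Gr ht (n + 1) ((xG hD p.1 p.2 : GL D.Idx K).val - 1) := by
        intro p hp
        obtain ⟨s, hs, rfl⟩ := List.mem_map.1 hp
        obtain ⟨hs1, hs2⟩ := (hmem s).1 hs
        by_cases hsn : ht s ≤ n
        · show Gr ht (n + 1) ((xG hD s (t s) : GL D.Idx K).val - 1)
          rw [ih s hs1 hs2 hsn, xG_zero, Units.val_one, sub_self]
          exact gr_zero _
        · exact (gr_xG hD H hs2 hs1 _).mono (by omega)
      obtain ⟨i, hi⟩ := exists_cartan (K := K) H hr'
      have h1 := entry_wordG hD (by omega) _ hfac ⟨r, hr'⟩ hrn i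
      rw [← hgt, List.map_map] at h1
      have h2 : g.val (Sum.inr ⟨r, hr'⟩) (Sum.inl i) = 0 := by
        have h3 := hgr (Sum.inr ⟨r, hr'⟩) (Sum.inl i) (by
          show ht r - 0 < h
          have := H.lt r hr'
          omega)
        rwa [Matrix.sub_apply, Matrix.one_apply_ne (by simp), sub_zero] at h3
      have h4 : (List.map ((fun p : ℕ × K => (xG hD p.1 p.2 : GL D.Idx K).val (Sum.inr ⟨r, hr'⟩) (Sum.inl i)) ∘
          fun r => (r, t r)) (rootsGE D (D.nroots / 2))) =
          (rootsGE D (D.nroots / 2)).map fun s => if r = s then - (((D.cartan i r : ℤ) : K) * t r) else 0 := by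
        refine List.map_congr_left fun s hs => ?_
        obtain ⟨hs1, hs2⟩ := (hmem s).1 hs
        show (xG hD s (t s) : GL D.Idx K).val (Sum.inr ⟨r, hr'⟩) (Sum.inl i) = _
        rw [coe_xG, x_of_lt hs2, Columns.xMat_inr_inl]
        by_cases hrs : r = s
        · subst hrs
          rw [if_pos rfl, if_pos rfl]
          have e : ((Columns.car D i.val r : ℤ) : K) = ((D.cartan i r : ℤ) : K) := rfl
          rw [e]
          ring
        · rw [if_neg hrs, if_neg (fun e => hrs (congrArg Fin.val e))]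
      rw [h2, h4, ← List.sum_toFinset _ hnd, Finset.sum_ite_eq,
        if_pos (List.mem_toFinset.2 ((hmem r).2 ⟨hr, hr'⟩))] at h1
      have h5 := neg_eq_zero.1 h1.symm
      rcases mul_eq_zero.1 h5 with h6 | h6
      · exact absurd h6 hi
      · exact h6
  rw [hgt]
  have h1 : ∀ s ∈ rootsGE D (D.nroots / 2), t s = 0 := by
    intro s hs
    obtain ⟨hs1, hs2⟩ := (hmem s).1 hs
    have h2 := H.pos s hs2 hs1
    refine key (ht s).toNat s hs1 hs2 ?_
    rw [Int.toNat_of_nonneg (by omega)]
  have h2 : ∀ w : List (ℕ × K), (∀ p ∈ w, p.2 = 0) → wordG hD w = 1 := by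
    intro w
    induction w with
    | nil => intro _; exact wordG_nil hD
    | cons p w ih =>
      intro hp
      rw [wordG_cons, ih fun q hq => hp q (List.mem_cons_of_mem _ hq), hp p List.mem_cons_self, xG_zero, one_mul]
  refine h2 _ fun p hp => ?_
  obtain ⟨s, hs, rfl⟩ := List.mem_map.1 hp
  exact h1 s hs

include hD H in
theorem gr_val {g : GL D.Idx K} (hg : g ∈ D.posUnipotent K) : Gr ht 1 (g.val - 1) := by
  rw [← unipGE_eq_posUnipotent hD K le_rfl] at hg
  obtain ⟨t, ht0, rfl⟩ := exists_prod hD le_rfl hg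
  refine gr_wordG hD le_rfl _ fun p hp => ?_
  obtain ⟨s, hs, rfl⟩ := List.mem_map.1 hp
  unfold rootsGE at hs
  rw [List.Ico.mem] at hs
  exact (gr_xG hD H hs.2 hs.1 _).mono (H.pos s hs.2 hs.1)

include hD H in
/-- **The exponent of `U`.** -/
theorem pow_eq_one_of_mem {p : ℕ} [Fact p.Prime] [CharP K p] {g : GL D.Idx K} (hg : g ∈ D.posUnipotent K) {k : ℕ}
    (hk : h ≤ ((p ^ k : ℕ) : ℤ)) : g ^ p ^ k = 1 := by
  refine eq_one_of_gr hD H (pow_mem hg _) ?_
  have h1 : (g ^ p ^ k).val - 1 = (g.val - 1) ^ p ^ k := by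
    have hne : Nonempty D.Idx := by
      by_contra hcon
      rw [not_nonempty_iff] at hcon
      have h0 : D.nroots = 0 := by
        by_contra h0
        exact hcon.false (Sum.inr ⟨0, Nat.pos_of_ne_zero h0⟩)
      have h2 := RootComb.good_of_mem hD
      revert hD
      intro hD
      simp only [InList, List.mem_cons, List.not_mem_nil, or_false] at hD
      rcases hD with rfl | rfl | rfl | rfl | rfl | rfl | rfl <;> revert h0 <;> decide
    have : CharP (Matrix D.Idx D.Idx K) p := inferInstance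
    have h2 : ((g.val - 1) ^ p ^ k : Matrix D.Idx D.Idx K) = g.val ^ p ^ k - 1 ^ p ^ k :=
      sub_pow_char_pow_of_commute p k (Commute.one_right _)
    rw [h2, one_pow, Units.val_pow_eq_pow_val]
  rw [h1]
  exact ((gr_val hD H hg).pow (p ^ k)).mono hk

end Main

section Fin

variable {D : ChevalleyDatum} {ht : ℕ → ℤ} {h : ℤ} {F : Type u} [Field F] [Fintype F]
  (hD : D ∈ [chevG2, chevB2, chevD4, chevF4, chevE6, chevE7, chevE8]) (H : HL D ht h)

include hD H in
/-- **Orders of the `p`-elements.** -/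
theorem pow_eq_one {p : ℕ} [Fact p.Prime] [CharP F p] {g : ↥(D.group F)} {n : ℕ} (hg : g ^ p ^ n = 1) {k : ℕ}
    (hk : h ≤ ((p ^ k : ℕ) : ℤ)) : g ^ p ^ k = 1 := by
  obtain ⟨P, hP⟩ := S2326.result (F := F) p D hD
  have hz : IsPGroup p ↥(Subgroup.zpowers g) := by
    rintro ⟨_, m, rfl⟩
    refine ⟨n, Subtype.ext ?_⟩
    show (g ^ m) ^ p ^ n = 1
    rw [← zpow_natCast, ← zpow_mul, mul_comm, zpow_mul, zpow_natCast, hg, one_zpow]
  obtain ⟨Q, hQ⟩ := hz.exists_le_sylow
  have : Finite ↥(D.group F) := inferInstance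
  obtain ⟨c, hc⟩ := MulAction.exists_smul_eq ↥(D.group F) Q P
  have h1 : c * g * c⁻¹ ∈ (P : Subgroup ↥(D.group F)) := by
    rw [← hc]
    have h2 : g ∈ Q := hQ (Subgroup.mem_zpowers g)
    show (MulAut.conj c) g ∈ ((c • Q : Sylow p ↥(D.group F)) : Set ↥(D.group F))
    rw [Sylow.coe_smul]
    exact Set.smul_mem_smul_set h2
  rw [hP, Subgroup.mem_subgroupOf] at h1
  have h2 := pow_eq_one_of_mem (hD) H (p := p) h1 hk
  have h3 : (c * g * c⁻¹) ^ p ^ k = 1 := Subtype.ext h2
  rw [conj_pow] at h3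
  have h4 : c * g ^ p ^ k = c := by rw [mul_inv_eq_one] at h3; exact h3
  exact mul_eq_left.1 h4

end Fin

end Cfsg.Agent.H363.Cyc.ExpU
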