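import Cfsg.Agent.H363.Cyc.RowF4Big
import Cfsg.Agent.H363.Cyc.F4TwoDeg
import Cfsg.Agent.H384.Cyc.FamBase

/-!
# TWOCYC (S3507): the rows `F₄(q)` and `²E₆(q)` (helper363)

* `smC_F4`, `ord_F4` : `F₄(2)`;
* `row_F4` : `F₄(q)`;
* `fam_F4`, `fam_2E6` : the families.
-/

set_option autoImplicit false

namespace Cfsg.Agent.H363.Cyc.RowF4

open Cfsg Cfsg.Lie Cfsg.Agent.H384.Cyc Cfsg.Agent.H363.Cyc.ExpU Cfsg.Agent.H363.Cyc.RowTwE6

universe u v

variable {F : Type u} [Field F] [Fintype F]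

/-- orders of the automorphisms of `F₄(2)` -/
theorem mo_two (hF : Fintype.card F = 2) : Mo ↥(chevF4.group F) (2 * (21 * 2 ^ 4)) := by
  have hfin : Finite (GL chevF4.Idx F) := inferInstance
  have : Fact (Nat.Prime 2) := ⟨Nat.prime_two⟩
  have : CharP F 2 := charP_of_card_eq_prime_pow (f := 1) (by rw [hF, pow_one])
  have hout := Cfsg.Agent.S2122.result (F := F) 2 1 (by rw [hF, pow_one])
  rw [Nat.gcd_self, mul_one] at hout
  exact mo hout.le (order_le (k := 4) (by norm_num) fun y hy => OrdF4.ss_two hF hy)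

theorem smC_F4 (hF : Fintype.card F = 2) : SmC ↥(chevF4.group F) :=
  ⟨_, 448, mo_two hF, F4TwoDeg.md_F4 hF, by norm_num⟩

theorem ord_F4 (hF : Fintype.card F = 2) : H384.Cyc.Ord ↥(chevF4.group F) := by
  refine ⟨_, mo_two hF, ?_⟩
  rw [Cfsg.Agent.S1062.result hF]
  norm_num

/-- **The row `F₄(q)`** -/
theorem row_F4 {T : Type u} [Group T] (h : IsoF4 T) : Sm T ∨ (SmC T ∧ H384.Cyc.Ord T) := by
  obtain ⟨F, _, _, ⟨e⟩⟩ := h
  rcases Nat.lt_or_ge (Fintype.card F) 3 with h2 | h3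
  · have h1 := Fintype.one_lt_card (α := F)
    have hF : Fintype.card F = 2 := by omega
    exact Or.inr ⟨(smC_F4 hF).congr e.symm, (ord_F4 hF).congr e.symm⟩
  · exact Or.inl ((sm_F4 h3).congr e.symm)

theorem fam_F4 (hS : ∀ (X : Type u) [Group X] [Finite X] [IsSimpleGroup X], IsKnownSimple' X) :
    Fam.{u, v} fun T _ => Lie.IsoF4 T := by
  refine ⟨fun G Ω _ _ T g hT hP => ?_, fun T _ _ _ hna hP => ?_⟩
  · have := hT.finG
    rcases row_F4 hP with h | h
    · exact H482.TwoCyc.row_sm G Ω T g hT h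
    · exact H482.TwoCyc.row_smC G Ω T g hT h.1
  · rcases row_F4 hP with h | h
    · exact Or.inl (ord_of_sm hna (hS T) h)
    · exact Or.inl h.2

theorem fam_2E6 (hS : ∀ (X : Type u) [Group X] [Finite X] [IsSimpleGroup X], IsKnownSimple' X) :
    Fam.{u, v} fun T _ => Lie.Iso2E6 T :=
  Fam.of_sm hS fun _ _ _ _ _ h => sm_iso2E6 h

end Cfsg.Agent.H363.Cyc.RowF4
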