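import Cfsg.Agent.H363.Cyc.RowTwE6
import Cfsg.Agent.H363.Cyc.OrdF4
import Cfsg.Agent.H934.HeisF4Even
import Cfsg.Agent.H934.HeisF4G2
import Cfsg.Agent.S2122
import Cfsg.Agent.S1054

/-!
# TWOCYC (S3507): the row `F₄(q)`, `q ≥ 3` (helper363)

`sm_F4` : `Sm F₄(q)`, `q ≥ 3`.
-/

set_option autoImplicit false

namespace Cfsg.Agent.H363.Cyc.RowF4

open Cfsg Cfsg.Lie Cfsg.Agent.H384.Cyc Cfsg.Agent.H363.Cyc.ExpU Cfsg.Agent.H363.Cyc.RowTwE6

universe u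

variable {F : Type u} [Field F] [Fintype F]

theorem order_le {p : ℕ} [Fact p.Prime] [CharP F p] {A k : ℕ} (hk : 12 ≤ p ^ k)
    (hA : ∀ y : ↥(chevF4.group F), (orderOf y).Coprime p → orderOf y ≤ A) (x : ↥(chevF4.group F)) :
    orderOf x ≤ A * p ^ k := by
  have hp : p.Prime := Fact.out
  have : Finite (GL chevF4.Idx F) := inferInstance
  refine orderOf_le_mul hp hA (fun y n hy => ?_) x
  exact Nat.le_of_dvd (pow_pos hp.pos k) (orderOf_dvd_of_pow_eq_one (pow_F4 hy hk))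

theorem index_odd (h2 : (2 : F) ≠ 0) (hs : IsSimpleGroup ↥(chevF4.group F)) (H : Subgroup ↥(chevF4.group F))
    (hH : H ≠ ⊤) : Fintype.card F ^ 8 ≤ H.index := by
  have h1 := Cfsg.Agent.H934.HeisF4G2.sq_le_F4 h2 hs H hH
  rw [show Fintype.card F ^ 16 = (Fintype.card F ^ 8) ^ 2 by ring] at h1
  exact (Nat.pow_le_pow_iff_left (by norm_num)).1 h1

theorem num_odd {p f q : ℕ} (hp : 2 ≤ p) (hf : 1 ≤ f) (hq : q = p ^ f) (hq5 : 5 ≤ q) :
    2 * (1 * f * ((q + 1) ^ 4 * (11 * p))) < q ^ 8 := by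
  have h1 := mul_le_pow hp hf
  rw [← hq] at h1
  have h2 : 5 ^ 4 * (q + 1) ^ 4 ≤ 6 ^ 4 * q ^ 4 := by
    rw [← Nat.mul_pow, ← Nat.mul_pow]
    exact Nat.pow_le_pow_left (by omega) 4
  have h3 : 5 ^ 3 ≤ q ^ 3 := Nat.pow_le_pow_left hq5 3
  have h4 : 0 < q ^ 5 := pow_pos (by omega) 5
  have e1 : 2 * (1 * f * ((q + 1) ^ 4 * (11 * p))) = 22 * (f * p) * (q + 1) ^ 4 := by ring
  have h5 : 5 ^ 4 * (22 * (f * p) * (q + 1) ^ 4) ≤ 22 * 6 ^ 4 * q ^ 5 := by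
    calc 5 ^ 4 * (22 * (f * p) * (q + 1) ^ 4) = 22 * (f * p) * (5 ^ 4 * (q + 1) ^ 4) := by ring
      _ ≤ 22 * q * (6 ^ 4 * q ^ 4) := Nat.mul_le_mul (Nat.mul_le_mul_left _ h1) h2
      _ = _ := by ring
  have h6 : 22 * 6 ^ 4 * q ^ 5 < 5 ^ 4 * q ^ 8 := by
    have e : q ^ 8 = q ^ 3 * q ^ 5 := by ring
    rw [e]
    have h7 : 22 * 6 ^ 4 < 5 ^ 4 * 5 ^ 3 := by norm_num
    calc 22 * 6 ^ 4 * q ^ 5 < 5 ^ 4 * 5 ^ 3 * q ^ 5 := Nat.mul_lt_mul_of_pos_right h7 h4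
      _ ≤ 5 ^ 4 * q ^ 3 * q ^ 5 := Nat.mul_le_mul_right _ (Nat.mul_le_mul_left _ h3)
      _ = _ := by ring
  rw [e1]
  exact Nat.lt_of_mul_lt_mul_left (h5.trans_lt h6)

theorem num_even {f q : ℕ} (hf : 1 ≤ f) (hq : q = 2 ^ f) (hq4 : 4 ≤ q) :
    2 * (2 * (2 * f * ((q + 1) ^ 4 * 16))) < q ^ 8 * (q ^ 3 - 1) := by
  have h1 := mul_le_pow (le_refl 2) hf
  rw [← hq] at h1
  have h2 : (q + 1) ^ 4 ≤ 2 ^ 4 * q ^ 4 := by
    rw [← Nat.mul_pow]
    exact Nat.pow_le_pow_left (by omega) 4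
  have h3 : 4 ^ 3 ≤ q ^ 3 := Nat.pow_le_pow_left hq4 3
  have h4 : 0 < q ^ 5 := pow_pos (by omega) 5
  have e1 : 2 * (2 * (2 * f * ((q + 1) ^ 4 * 16))) = 64 * (f * 2) * (q + 1) ^ 4 := by ring
  rw [e1]
  calc 64 * (f * 2) * (q + 1) ^ 4 ≤ 64 * q * (2 ^ 4 * q ^ 4) := Nat.mul_le_mul (Nat.mul_le_mul_left _ h1) h2
    _ = 1024 * q ^ 5 := by ring
    _ < 4 ^ 3 * 63 * q ^ 5 := Nat.mul_lt_mul_of_pos_right (by norm_num) h4
    _ ≤ q ^ 3 * (q ^ 3 - 1) * q ^ 5 := Nat.mul_le_mul_right _ (Nat.mul_le_mul h3 (by omega))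
    _ = _ := by ring

/-- **`F₄(q)`, `q ≥ 3`** -/
theorem sm_F4 (hF : 3 ≤ Fintype.card F) : Sm ↥(chevF4.group F) := by
  have hfin : Finite (GL chevF4.Idx F) := inferInstance
  have hs : IsSimpleGroup ↥(chevF4.group F) := (Cfsg.Agent.S1054.result chevF4 (by simp)).1
  obtain ⟨p, hchar⟩ := CharP.exists F
  obtain ⟨f, hp', hcard⟩ := FiniteField.card F p
  have : Fact p.Prime := ⟨hp'⟩
  have hout := Cfsg.Agent.S2122.result p (f : ℕ) hcard
  have hf1 : 1 ≤ (f : ℕ) := f.pos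
  generalize hfe : (f : ℕ) = f' at *
  by_cases h2p : p = 2
  · subst h2p
    rw [Nat.gcd_self] at hout
    refine ⟨_, mo hout.le (order_le (k := 4) (by norm_num) fun y hy => OrdF4.ss_le hy), fun H hH => ?_⟩
    have h1 := Cfsg.Agent.H934.HeisF4Even.main hs H hH
    have h4 : 4 ≤ Fintype.card F := by
      rw [hcard] at hF ⊢
      rcases Nat.lt_or_ge f' 2 with h | h
      · have : f' = 1 := by omega
        subst this
        norm_num at hF
      · calc 4 = 2 ^ 2 := by norm_num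
          _ ≤ 2 ^ f' := Nat.pow_le_pow_right (by norm_num) h
    have h5 := num_even hf1 hcard h4
    norm_num at h5 ⊢
    omega
  · have h2 : (2 : F) ≠ 0 := by
      intro h
      have h3 : (p : ℕ) ∣ 2 := (CharP.cast_eq_zero_iff F p 2).1 (by exact_mod_cast h)
      exact h2p ((Nat.prime_dvd_prime_iff_eq hp' Nat.prime_two).1 h3)
    have hg : Nat.gcd 2 p = 1 := (Nat.coprime_primes Nat.prime_two hp').2 (Ne.symm h2p)
    rw [hg] at hout
    rcases Nat.lt_or_ge (Fintype.card F) 5 with h5 | h5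
    · have h3 : Fintype.card F = 3 := by
        by_contra hne
        have h4 : Fintype.card F = 4 := by omega
        have h6 : p ∣ 4 := by rw [← h4, hcard]; exact dvd_pow_self p (by omega)
        have h7 : p ∣ 2 := hp'.dvd_of_dvd_pow (show p ∣ 2 ^ 2 by norm_num; exact h6)
        exact h2p ((Nat.prime_dvd_prime_iff_eq hp' Nat.prime_two).1 h7)
      have hp3 : p = 3 ∧ f' = 1 := by
        rw [h3] at hcard
        have h6 : p ∣ 3 := by rw [hcard]; exact dvd_pow_self p (by omega)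
        have h7 := (Nat.prime_dvd_prime_iff_eq hp' Nat.prime_three).1 h6
        subst h7
        refine ⟨rfl, ?_⟩
        exact Nat.pow_right_injective (show 2 ≤ 3 by norm_num) (by simpa using hcard.symm)
      obtain ⟨rfl, rfl⟩ := hp3
      refine ⟨_, mo hout.le (order_le (k := 3) (by norm_num) fun y hy => OrdF4.ss_three h3 hy), fun H hH => ?_⟩
      refine lt_of_lt_of_le ?_ (index_odd h2 hs H hH)
      rw [h3]
      norm_num
    · obtain ⟨k, hk1, hk2⟩ := exists_pow hp'.two_le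
      refine ⟨_, mo hout.le (order_le hk1 fun y hy => OrdF4.ss_le hy), fun H hH => ?_⟩
      refine lt_of_lt_of_le ?_ (index_odd h2 hs H hH)
      refine lt_of_le_of_lt ?_ (num_odd hp'.two_le hf1 hcard h5)
      gcongr

end Cfsg.Agent.H363.Cyc.RowF4
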