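import Cfsg.Agent.H384.Cyc.Tools
import Cfsg.Agent.H363.Cyc.IdxTwE6Two
import Cfsg.Agent.H363.Cyc.TorTwE6
import Cfsg.Agent.H363.Cyc.CycTab
import Cfsg.Agent.H363.Cyc.ExpTab
import Cfsg.Agent.H934.HeisTwE6
import Cfsg.Agent.H934.OutB
import Cfsg.Agent.S2130

/-!
# TWOCYC (S3507): the row `²E₆(q)`, all `q` (helper363)

`sm_twE6` : `Sm ²E₆(q)`.
-/

set_option autoImplicit false

namespace Cfsg.Agent.H363.Cyc.RowTwE6

open Cfsg Cfsg.Lie Cfsg.Agent.H384.Cyc Cfsg.Agent.H363.Cyc.ExpU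

universe u v

/-- orders of automorphisms from `|Out T|` and the orders of the elements -/
theorem mo {T : Type u} [Group T] [Finite T] {B c : ℕ} (hc : Nat.card (Cfsg.Out T) ≤ c)
    (hB : ∀ x : T, orderOf x ≤ B) : Mo T (c * B) := by
  have hN : (MulAut.conj : T →* MulAut T).range.Normal := by
    constructor
    rintro _ ⟨t, rfl⟩ α
    refine ⟨α t, ?_⟩
    ext g
    simp
  refine mo_of_index (MulAut.conj : T →* MulAut T).range hc ?_
  rintro _ ⟨t, rfl⟩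
  have h1 : orderOf (MulAut.conj t) ≤ orderOf t :=
    Nat.le_of_dvd (orderOf_pos t) (orderOf_map_dvd (MulAut.conj : T →* MulAut T) t)
  exact h1.trans (hB t)

theorem mul_le_pow {p f : ℕ} (hp : 2 ≤ p) (hf : 1 ≤ f) : f * p ≤ p ^ f := by
  induction f with
  | zero => omega
  | succ n ih =>
    rcases Nat.eq_zero_or_pos n with h | h
    · subst h; simp
    · have h1 := ih h
      rw [pow_succ, Nat.add_mul, one_mul]
      have h2 : p ≤ p ^ n := Nat.le_self_pow h.ne' p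
      nlinarith

/-- a power of `p` between `12` and `11 p` -/
theorem exists_pow {p : ℕ} (hp : 2 ≤ p) : ∃ k, 12 ≤ p ^ k ∧ p ^ k ≤ 11 * p := by
  have hex : ∃ k, 12 ≤ p ^ k := ⟨4, le_trans (by norm_num) (Nat.pow_le_pow_left hp 4)⟩
  classical
  refine ⟨Nat.find hex, Nat.find_spec hex, ?_⟩
  have h0 : Nat.find hex ≠ 0 := by
    intro h
    have := Nat.find_spec hex
    rw [h, pow_zero] at this
    omega
  obtain ⟨k, hk⟩ := Nat.exists_eq_succ_of_ne_zero h0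
  have h1 := Nat.find_min hex (m := k) (by omega)
  rw [hk, Nat.succ_eq_add_one, pow_succ]
  exact Nat.mul_le_mul_right _ (by omega)

variable {K : Type u} [Field K] [Fintype K] {q : ℕ}

/-- element orders -/
theorem order_le (hq : IsPrimePow q) (hK : Fintype.card K = q ^ 2) {p : ℕ} [Fact p.Prime] [CharP K p] {A k : ℕ}
    (hk : 12 ≤ p ^ k) (hA : ∀ (S : Finset ℕ), (∀ d ∈ S, 0 < d) → ∑ d ∈ S, Nat.totient d ≤ 6 → ∀ n : ℕ,
      (n : ℤ) ∣ ∏ d ∈ S, (Polynomial.cyclotomic d ℤ).eval (q : ℤ) → n ≤ A) (x : ↥(twistedE6 K q)) :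
    orderOf x ≤ A * p ^ k := by
  have : Finite ↥(twistedE6 K q) := Finite.of_injective Subtype.val Subtype.val_injective
  have hp : p.Prime := Fact.out
  refine orderOf_le_mul hp (fun y hy => ?_) (fun y n hy => ?_) x
  · obtain ⟨S, h1, h2, h3⟩ := TorTwE6.ord_twE6 hq hK hy
    exact hA S h1 h2 _ h3
  · exact Nat.le_of_dvd (pow_pos hp.pos k) (orderOf_dvd_of_pow_eq_one (pow_sub_E6 (H129.TwE6Fr.tw_le hq hK) hy hk))

theorem le_index (hq : IsPrimePow q) (hK : Fintype.card K = q ^ 2) (H : Subgroup ↥(twistedE6 K q)) (hH : H ≠ ⊤) :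
    q ^ 11 ≤ H.index := by
  have h1 := Cfsg.Agent.H934.HeisTwE6.bound_2E6 hq hK (S1070.result hq hK).1 H hH
  rw [show q ^ 22 = (q ^ 11) ^ 2 by ring] at h1
  exact (Nat.pow_le_pow_iff_left (by norm_num)).1 h1

theorem num {p f q : ℕ} (hp : 2 ≤ p) (hf : 1 ≤ f) (hq : q = p ^ f) (hq5 : 7 ≤ q) :
    2 * (6 * f * ((q + 1) ^ 6 * (11 * p))) < q ^ 11 := by
  have h1 := mul_le_pow hp hf
  rw [← hq] at h1
  have h2 : 7 ^ 6 * (q + 1) ^ 6 ≤ 8 ^ 6 * q ^ 6 := by
    rw [← Nat.mul_pow, ← Nat.mul_pow]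
    exact Nat.pow_le_pow_left (by omega) 6
  have h3 : 7 ^ 4 ≤ q ^ 4 := Nat.pow_le_pow_left hq5 4
  have h4 : 0 < q ^ 7 := pow_pos (by omega) 7
  have e1 : 2 * (6 * f * ((q + 1) ^ 6 * (11 * p))) = 132 * (f * p) * (q + 1) ^ 6 := by ring
  have h5 : 7 ^ 6 * (132 * (f * p) * (q + 1) ^ 6) ≤ 132 * 8 ^ 6 * q ^ 7 := by
    calc 7 ^ 6 * (132 * (f * p) * (q + 1) ^ 6) = 132 * (f * p) * (7 ^ 6 * (q + 1) ^ 6) := by ring
      _ ≤ 132 * q * (8 ^ 6 * q ^ 6) := Nat.mul_le_mul (Nat.mul_le_mul_left _ h1) h2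
      _ = _ := by ring
  have h6 : 132 * 8 ^ 6 * q ^ 7 < 7 ^ 6 * q ^ 11 := by
    have e : q ^ 11 = q ^ 4 * q ^ 7 := by ring
    rw [e]
    have h7 : 132 * 8 ^ 6 < 7 ^ 6 * 7 ^ 4 := by norm_num
    calc 132 * 8 ^ 6 * q ^ 7 < 7 ^ 6 * 7 ^ 4 * q ^ 7 := Nat.mul_lt_mul_of_pos_right h7 h4
      _ ≤ 7 ^ 6 * q ^ 4 * q ^ 7 := Nat.mul_le_mul_right _ (Nat.mul_le_mul_left _ h3)
      _ = _ := by ring
  rw [e1]
  exact Nat.lt_of_mul_lt_mul_left (h5.trans_lt h6)

/-- **`²E₆(q)`** -/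
theorem sm_twE6 (hq : IsPrimePow q) (hK : Fintype.card K = q ^ 2) : Sm ↥(twistedE6 K q) := by
  have hfin : Finite ↥(twistedE6 K q) := Finite.of_injective Subtype.val Subtype.val_injective
  have hq' := hq
  obtain ⟨p, f, hp, hf, hqf⟩ := hq'
  have hp' := Nat.prime_iff.2 hp
  have : Fact p.Prime := ⟨hp'⟩
  have hKp : Fintype.card K = p ^ (2 * f) := by rw [hK, ← hqf, ← pow_mul, mul_comm]
  have : CharP K p := charP_of_card_eq_prime_pow hKp
  have hout := Cfsg.Agent.S2130.result p f hKp hf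
  rw [hqf] at hout
  have hg : Nat.gcd 3 (q + 1) ≤ 3 := Nat.le_of_dvd (by norm_num) (Nat.gcd_dvd_left _ _)
  have hq2 : 2 ≤ q := hq.two_le
  have hgen : ∀ (S : Finset ℕ), (∀ d ∈ S, 0 < d) → ∑ d ∈ S, Nat.totient d ≤ 6 → ∀ n : ℕ,
      (n : ℤ) ∣ ∏ d ∈ S, (Polynomial.cyclotomic d ℤ).eval (q : ℤ) → n ≤ (q + 1) ^ 6 :=
    fun S _ h2 n h3 => CycNum.prod_le hq2 h2 h3
  have hf1 : 1 ≤ f := hf
  rcases Nat.lt_or_ge q 7 with h7 | h7
  · -- small cases
    have hcases : (p = 2 ∧ f = 1 ∧ q = 2) ∨ (p = 2 ∧ f = 2 ∧ q = 4) ∨ (p = 3 ∧ f = 1 ∧ q = 3) ∨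
        (p = 5 ∧ f = 1 ∧ q = 5) := by
      have hpq : p ≤ q := by rw [← hqf]; exact Nat.le_self_pow hf.ne' p
      have hp2 := hp'.two_le
      have hpp : p = 2 ∨ p = 3 ∨ p = 5 := by
        have h6 : p ≤ 6 := by omega
        interval_cases p
        · exact Or.inl rfl
        · exact Or.inr (Or.inl rfl)
        · exact absurd hp' (by norm_num)
        · exact Or.inr (Or.inr rfl)
        · exact absurd hp' (by norm_num)
      have hf3 : f < 3 := by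
        by_contra hcon
        push Not at hcon
        have h8 : 2 ^ 3 ≤ p ^ f := (Nat.pow_le_pow_left hp2 3).trans (Nat.pow_le_pow_right (by omega) hcon)
        rw [hqf] at h8
        omega
      have hf12 : f = 1 ∨ f = 2 := by omega
      rcases hpp with rfl | rfl | rfl <;> rcases hf12 with rfl | rfl
      · left; exact ⟨rfl, rfl, by rw [← hqf]; norm_num⟩
      · right; left; exact ⟨rfl, rfl, by rw [← hqf]; norm_num⟩
      · right; right; left; exact ⟨rfl, rfl, by rw [← hqf]; norm_num⟩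
      · rw [← hqf] at h7; norm_num at h7
      · right; right; right; exact ⟨rfl, rfl, by rw [← hqf]; norm_num⟩
      · rw [← hqf] at h7; norm_num at h7
    rcases hcases with ⟨rfl, rfl, rfl⟩ | ⟨rfl, rfl, rfl⟩ | ⟨rfl, rfl, rfl⟩ | ⟨rfl, rfl, rfl⟩
    · -- `q = 2`
      refine ⟨_, mo hout.le (order_le hq hK (k := 4) (by norm_num) hgen), fun H hH => ?_⟩
      refine lt_of_lt_of_le ?_ (IdxTwE6Two.index_le hK H hH)
      norm_num
    · -- `q = 4`
      refine ⟨_, mo hout.le (order_le hq hK (k := 4) (by norm_num) hgen), fun H hH => ?_⟩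
      refine lt_of_lt_of_le ?_ (le_index hq hK H hH)
      norm_num
    · -- `q = 3`
      refine ⟨_, mo hout.le (order_le hq hK (k := 3) (by norm_num)
        (fun S h1 h2 n h3 => CycNum.bound_three6 h1 h2 h3)), fun H hH => ?_⟩
      refine lt_of_lt_of_le ?_ (le_index hq hK H hH)
      norm_num
    · -- `q = 5`
      refine ⟨_, mo hout.le (order_le hq hK (k := 2) (by norm_num) hgen), fun H hH => ?_⟩
      refine lt_of_lt_of_le ?_ (le_index hq hK H hH)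
      norm_num
  · obtain ⟨k, hk1, hk2⟩ := exists_pow hp'.two_le
    have hout' : Nat.card (Cfsg.Out ↥(twistedE6 K q)) ≤ 6 * f := by
      rw [hout]
      exact Nat.mul_le_mul_right _ (by omega)
    refine ⟨_, mo hout' (order_le hq hK hk1 hgen), fun H hH => ?_⟩
    refine lt_of_lt_of_le ?_ (le_index hq hK H hH)
    refine lt_of_le_of_lt ?_ (num hp'.two_le hf1 hqf.symm h7)
    gcongr

/-- the row -/
theorem sm_iso2E6 {T : Type u} [Group T] (h : Iso2E6 T) : Sm T := by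
  obtain ⟨K, _, _, q, hq, hK, ⟨e⟩⟩ := h
  exact (sm_twE6 hq hK).congr e.symm

end Cfsg.Agent.H363.Cyc.RowTwE6
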